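import Cfsg.Agent.H121.RIM.CFiveDat
import Cfsg.Agent.S0279

/-!
# S4816, `U₆(2)`: the centralizer of an element of order 5 has order 30 (helper121)
-/

set_option autoImplicit false
set_option linter.unusedSectionVars false

namespace Cfsg.Agent.H121.RIM

open Cfsg Matrix Cfsg.Agent.SporadicA.FieldFour F4 Cfsg.Agent.H852.USixElts Cfsg.Agent.H80.Fpf
open Cfsg.Agent.LieClassical.SUBasic Cfsg.Agent.H410.QA

set_option maxRecDepth 100000

def sg : Fin 6 → Fin 6 := ![1, 2, 3, 4, 0, 5]

def ta : Fin 6 → Fin 6 := ![4, 0, 1, 2, 3, 5]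

theorem P5_eq0 : P5 = Matrix.of fun i j => if sg i = j then (1 : F4) else 0 := by decide +kernel

theorem P5_eq0' : P5 = Matrix.of fun i j => if i = ta j then (1 : F4) else 0 := by decide +kernel

theorem P5_eq (i j : Fin 6) : P5 i j = if sg i = j then 1 else 0 := by
  rw [P5_eq0]
  rfl

theorem P5_eq' (i j : Fin 6) : P5 i j = if i = ta j then 1 else 0 := by
  rw [P5_eq0']
  rfl

theorem P5_mul (A : M6) (i j : Fin 6) : (P5 * A) i j = A (sg i) j := by
  rw [Matrix.mul_apply, Finset.sum_eq_single (sg i)]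
  · rw [P5_eq, if_pos rfl, one_mul]
  · intro b _ hb
    rw [P5_eq, if_neg hb.symm, zero_mul]
  · intro h
    exact absurd (Finset.mem_univ _) h

theorem mul_P5 (A : M6) (i j : Fin 6) : (A * P5) i j = A i (ta j) := by
  rw [Matrix.mul_apply, Finset.sum_eq_single (ta j)]
  · rw [P5_eq', if_pos rfl, mul_one]
  · intro b _ hb
    rw [P5_eq', if_neg hb, mul_zero]
  · intro h
    exact absurd (Finset.mem_univ _) h

/-- the parameters -/
def tup (A : M6) : (F4 × F4 × F4) × F5 := ((A 0 5, A 5 0, A 5 5), (A 0 0, A 0 1, A 0 2, A 0 3, A 0 4))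

theorem form {A : M6} (h : A * P5 = P5 * A) : A = CC (A 0 5) (A 5 0) (A 5 5) (A 0 0) (A 0 1) (A 0 2) (A 0 3) (A 0 4) := by
  have e : ∀ i j, A i (ta j) = A (sg i) j := by
    intro i j
    have h1 := congrFun (congrFun h i) j
    rw [mul_P5, P5_mul] at h1
    exact h1
  have h1 : ∀ j, A 1 j = A 0 (ta j) := fun j => (e 0 j).symm
  have h2 : ∀ j, A 2 j = A 1 (ta j) := fun j => (e 1 j).symm
  have h3 : ∀ j, A 3 j = A 2 (ta j) := fun j => (e 2 j).symm
  have h4 : ∀ j, A 4 j = A 3 (ta j) := fun j => (e 3 j).symm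
  have h5 : ∀ j, A 5 j = A 5 (ta j) := fun j => (e 5 j).symm
  have b1 : A 5 1 = A 5 0 := h5 1
  have b2 : A 5 2 = A 5 0 := (h5 2).trans b1
  have b3 : A 5 3 = A 5 0 := (h5 3).trans b2
  have b4 : A 5 4 = A 5 0 := (h5 4).trans b3
  ext i j
  fin_cases i
  · fin_cases j <;> rfl
  · fin_cases j <;> exact h1 _
  · fin_cases j <;> exact (h2 _).trans (h1 _)
  · fin_cases j <;> exact (h3 _).trans ((h2 _).trans (h1 _))
  · fin_cases j <;> exact (h4 _).trans ((h3 _).trans ((h2 _).trans (h1 _)))
  · fin_cases j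
    · rfl
    · exact b1
    · exact b2
    · exact b3
    · exact b4
    · rfl

/-- the finite set of the parameters -/
def SS : Finset ((F4 × F4 × F4) × F5) := (T1.toFinset ×ˢ LA.toFinset) ∪ (T2.toFinset ×ˢ LB.toFinset)

theorem card_SS : SS.card ≤ 270 := by
  refine (Finset.card_union_le _ _).trans ?_
  rw [Finset.card_product, Finset.card_product]
  have h1 : T1.toFinset.card ≤ 3 := List.toFinset_card_le T1
  have h2 : LA.toFinset.card ≤ 45 := List.toFinset_card_le LA
  have h3 : T2.toFinset.card ≤ 9 := List.toFinset_card_le T2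
  have h4 : LB.toFinset.card ≤ 15 := List.toFinset_card_le LB
  have h5 := Nat.mul_le_mul h1 h2
  have h6 := Nat.mul_le_mul h3 h4
  omega

theorem st_apply (A : M6) (i j : Fin 6) : st A i j = frob (A j i) := rfl

theorem mul_st_apply (A : M6) (i j : Fin 6) : (A * st A) i j = A i 0 * frob (A j 0) + A i 1 * frob (A j 1) +
    A i 2 * frob (A j 2) + A i 3 * frob (A j 3) + A i 4 * frob (A j 4) + A i 5 * frob (A j 5) := by
  rw [Matrix.mul_apply, Fin.sum_univ_six]
  rfl

theorem two_eq (x : F4) : x + x = 0 := by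
  revert x
  decide +kernel

theorem mem_SS {A : M6} (h : A * P5 = P5 * A) (hu : A * st A = 1) (hv : st A * A = 1) : tup A ∈ SS := by
  have hA := form h
  obtain ⟨a, b, d, c0, c1, c2, c3, c4, rfl⟩ : ∃ a b d c0 c1 c2 c3 c4, A = CC a b d c0 c1 c2 c3 c4 :=
    ⟨_, _, _, _, _, _, _, _, hA⟩
  have e00 : c0 * frob c0 + c1 * frob c1 + c2 * frob c2 + c3 * frob c3 + c4 * frob c4 + a * frob a = 1 := by
    have := congrFun (congrFun hu 0) 0
    rw [mul_st_apply] at this
    exact this
  have e55 : b * frob b + b * frob b + b * frob b + b * frob b + b * frob b + d * frob d = 1 := by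
    have := congrFun (congrFun hu 5) 5
    rw [mul_st_apply] at this
    exact this
  have e05 : c0 * frob b + c1 * frob b + c2 * frob b + c3 * frob b + c4 * frob b + a * frob d = 0 := by
    have := congrFun (congrFun hu 0) 5
    rw [mul_st_apply] at this
    exact this
  have e04 : c0 * frob c1 + c1 * frob c2 + c2 * frob c3 + c3 * frob c4 + c4 * frob c0 + a * frob a = 0 := by
    have := congrFun (congrFun hu 0) 4
    rw [mul_st_apply] at this
    exact this
  have e03 : c0 * frob c2 + c1 * frob c3 + c2 * frob c4 + c3 * frob c0 + c4 * frob c1 + a * frob a = 0 := by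
    have := congrFun (congrFun hu 0) 3
    rw [mul_st_apply] at this
    exact this
  have f55 : frob a * a + frob a * a + frob a * a + frob a * a + frob a * a + frob d * d = 1 := by
    have := congrFun (congrFun hv 5) 5
    rw [Matrix.mul_apply, Fin.sum_univ_six] at this
    exact this
  have g1 : a * frob a + d * frob d = 1 := by
    rw [← f55]
    have k : ∀ x y : F4, x * frob x + y * frob y = frob x * x + frob x * x + frob x * x + frob x * x + frob x * x +
        frob y * y := by decide +kernel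
    exact k a d
  have g2 : b * frob b + d * frob d = 1 := by
    rw [← e55]
    have k : ∀ x y : F4, x + y = x + x + x + x + x + y := by decide +kernel
    exact k _ _
  have hmem : tup (CC a b d c0 c1 c2 c3 c4) = ((a, b, d), (c0, c1, c2, c3, c4)) := rfl
  rw [hmem, SS, Finset.mem_union, Finset.mem_product, Finset.mem_product, List.mem_toFinset, List.mem_toFinset,
    List.mem_toFinset, List.mem_toFinset]
  rcases keyT a b d g1 g2 with h1 | h1
  · left
    refine ⟨h1, ?_⟩
    have ha : a * frob a = 0 := by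
      have k : ∀ a b d : F4, (a, b, d) ∈ T1 → a * frob a = 0 := by decide +kernel
      exact k a b d h1
    rw [ha, add_zero] at e00 e04 e03
    exact keyA _ _ _ _ _ e00 e04 e03
  · right
    refine ⟨h1, ?_⟩
    have k : ∀ a b d : F4, (a, b, d) ∈ T2 → a * frob a = 1 ∧ frob b ≠ 0 ∧ frob d = 0 := by decide +kernel
    obtain ⟨ha, hb, hd⟩ := k a b d h1
    rw [ha] at e00 e04 e03
    have k2 : ∀ x : F4, x + 1 = 1 → x = 0 := by decide +kernel
    have k3 : ∀ x : F4, x + 1 = 0 → x = 1 := by decide +kernel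
    have hs : c0 + c1 + c2 + c3 + c4 = 0 := by
      have h2 : (c0 + c1 + c2 + c3 + c4) * frob b = 0 := by
        rw [hd, mul_zero, add_zero] at e05
        rw [← e05]
        ring
      exact (mul_eq_zero.1 h2).resolve_right hb
    exact keyB _ _ _ _ _ hs (k2 _ e00) (k3 _ e04) (k3 _ e03)

theorem tup_inj {A B : M6} (hA : A * P5 = P5 * A) (hB : B * P5 = P5 * B) (h : tup A = tup B) : A = B := by
  rw [form hA, form hB]
  unfold tup at h
  simp only [Prod.mk.injEq] at h
  obtain ⟨⟨h1, h2, h3⟩, h4, h5, h6, h7, h8⟩ := h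
  rw [h1, h2, h3, h4, h5, h6, h7, h8]

/-! ### a unitary matrix of determinant `w` -/

def DD : M6 := !![o,z,z,z,z,z; z,o,z,z,z,z; z,z,o,z,z,z; z,z,z,o,z,z; z,z,z,z,o,z; z,z,z,z,z,w]

theorem DD_st : st DD * DD = 1 := by decide +kernel

theorem DD_det : DD.det = w := by decide +kernel

theorem DD_P5 : DD * P5 = P5 * DD := by decide +kernel

theorem DD_pow (k : ℕ) : st (DD ^ k) * DD ^ k = 1 := by
  induction k with
  | zero => rw [pow_zero, mul_one]; decide +kernel
  | succ k ih =>
    calc st (DD ^ (k + 1)) * DD ^ (k + 1) = st DD * (st (DD ^ k) * DD ^ k) * DD := by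
          rw [pow_succ, st_mul]
          simp only [mul_assoc]
      _ = 1 := by rw [ih, mul_one, DD_st]

theorem centralizer_le {y : PSU 6 F4 2} (hy : y = pr p5) :
    Nat.card (Subgroup.centralizer ({y} : Set (PSU 6 F4 2))) ≤ 30 := by
  classical
  subst hy
  have := finite_S
  set C := Subgroup.centralizer ({pr p5} : Set (PSU 6 F4 2)) with hC
  set K := C.comap pr with hK
  have hc3 : Nat.card (Subgroup.center (SU 6 F4 2)) = 3 := by
    have := Cfsg.Agent.S0279.result (F := F4) hF 6 (by norm_num)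
    rw [this]
    decide
  have hKC : Nat.card K = Nat.card C * 3 := by
    have h1 := Subgroup.card_mul_index K
    have h2 : K.index = C.index := Subgroup.index_comap_of_surjective C (QuotientGroup.mk'_surjective _)
    have h3 := Subgroup.card_mul_index C
    have h4 := Subgroup.card_eq_card_quotient_mul_card_subgroup (Subgroup.center (SU 6 F4 2))
    rw [hc3] at h4
    have h5 : Nat.card (SU 6 F4 2 ⧸ Subgroup.center (SU 6 F4 2)) = Nat.card C * C.index := h3.symm
    have h6 : 0 < C.index := Nat.pos_of_ne_zero C.index_ne_zero_of_finite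
    apply Nat.eq_of_mul_eq_mul_right h6
    rw [← h2, h1, h4, h5, h2]
    ring
  have hcomm : ∀ k : K, mat (k : SU 6 F4 2) * P5 = P5 * mat (k : SU 6 F4 2) := by
    intro k
    have h1 : pr (k : SU 6 F4 2) * pr p5 = pr p5 * pr (k : SU 6 F4 2) :=
      Subgroup.mem_centralizer_singleton_iff.1 k.2
    exact comm_of (g := p5) (by
      show P5.trace ≠ 0
      decide +kernel) h1
  let g : K × Fin 3 → M6 := fun q => DD ^ (q.2 : ℕ) * mat (q.1 : SU 6 F4 2)
  have hg1 : ∀ q, g q * P5 = P5 * g q := by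
    intro q
    show DD ^ (q.2 : ℕ) * mat (q.1 : SU 6 F4 2) * P5 = P5 * (DD ^ (q.2 : ℕ) * mat (q.1 : SU 6 F4 2))
    have h1 : Commute (DD ^ (q.2 : ℕ)) P5 := (show Commute DD P5 from DD_P5).pow_left _
    rw [mul_assoc, hcomm, ← mul_assoc, h1.eq, mul_assoc]
  have hg2 : ∀ q, st (g q) * g q = 1 := by
    intro q
    show st (DD ^ (q.2 : ℕ) * mat (q.1 : SU 6 F4 2)) * (DD ^ (q.2 : ℕ) * mat (q.1 : SU 6 F4 2)) = 1
    rw [st_mul]
    calc st (mat (q.1 : SU 6 F4 2)) * st (DD ^ (q.2 : ℕ)) * (DD ^ (q.2 : ℕ) * mat (q.1 : SU 6 F4 2)) =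
        st (mat (q.1 : SU 6 F4 2)) * (st (DD ^ (q.2 : ℕ)) * DD ^ (q.2 : ℕ)) * mat (q.1 : SU 6 F4 2) := by
          simp only [mul_assoc]
      _ = 1 := by rw [DD_pow, mul_one, st_mat]
  have hinj : Function.Injective g := by
    rintro ⟨k, i⟩ ⟨l, j⟩ h
    have h1 : DD ^ (i : ℕ) * mat (k : SU 6 F4 2) = DD ^ (j : ℕ) * mat (l : SU 6 F4 2) := h
    have h2 := congrArg Matrix.det h1
    rw [Matrix.det_mul, Matrix.det_mul, Matrix.det_pow, Matrix.det_pow, DD_det, det_mat, det_mat, mul_one, mul_one] at h2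
    have h3 : ∀ i j : Fin 3, (w : F4) ^ (i : ℕ) = w ^ (j : ℕ) → i = j := by decide +kernel
    have h4 := h3 i j h2
    subst h4
    have h5 : mat (k : SU 6 F4 2) = mat (l : SU 6 F4 2) := by
      have h6 := congrArg (fun M => st (DD ^ (i : ℕ)) * M) h1
      simp only [← mul_assoc, DD_pow, one_mul] at h6
      exact h6
    rw [Subtype.ext (mat_inj h5)]
  have h1 : Nat.card (K × Fin 3) ≤ Nat.card SS := by
    refine Nat.card_le_card_of_injective (fun q => (⟨tup (g q), mem_SS (hg1 q) (mul_eq_one_comm.1 (hg2 q)) (hg2 q)⟩ : SS)) ?_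
    intro q r hqr
    exact hinj (tup_inj (hg1 q) (hg1 r) (congrArg Subtype.val hqr))
  rw [Nat.card_prod, Nat.card_fin, Nat.card_eq_fintype_card (α := SS), Fintype.card_coe] at h1
  have h2 := card_SS
  omega

end Cfsg.Agent.H121.RIM
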