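import Cfsg.Agent.H121.RIM.Elts
import Cfsg.Agent.H410.QA.U62Elts

/-!
# S4816, `U₆(2)`: the centralizer of an element of order 5 (helper121): the unitary matrices commuting with a 5-cycle
-/

set_option autoImplicit false
set_option linter.unusedSectionVars false

namespace Cfsg.Agent.H121.RIM

open Cfsg Matrix Cfsg.Agent.SporadicA.FieldFour F4 Cfsg.Agent.H852.USixElts Cfsg.Agent.H80.Fpf
open Cfsg.Agent.LieClassical.SUBasic Cfsg.Agent.H410.QA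

set_option maxRecDepth 100000

/-- the matrices commuting with the 5-cycle -/
def CC (a b d c0 c1 c2 c3 c4 : F4) : M6 :=
  !![c0,c1,c2,c3,c4,a; c4,c0,c1,c2,c3,a; c3,c4,c0,c1,c2,a; c2,c3,c4,c0,c1,a; c1,c2,c3,c4,c0,a; b,b,b,b,b,d]

abbrev F5 := F4 × F4 × F4 × F4 × F4

def LA : List F5 := [
  (z,z,z,z,o), (z,z,z,z,w), (z,z,z,z,v), (z,z,z,o,z), (z,z,z,w,z), (z,z,z,v,z), (z,z,o,z,z), (z,z,w,z,z),
  (z,z,v,z,z), (z,o,z,z,z), (z,w,z,z,z), (z,v,z,z,z), (o,z,z,z,z), (o,o,o,o,w), (o,o,o,o,v), (o,o,o,w,o),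
  (o,o,o,v,o), (o,o,w,o,o), (o,o,v,o,o), (o,w,o,o,o), (o,w,w,w,w), (o,v,o,o,o), (o,v,v,v,v), (w,z,z,z,z),
  (w,o,o,o,o), (w,o,w,w,w), (w,w,o,w,w), (w,w,w,o,w), (w,w,w,w,o), (w,w,w,w,v), (w,w,w,v,w), (w,w,v,w,w),
  (w,v,w,w,w), (w,v,v,v,v), (v,z,z,z,z), (v,o,o,o,o), (v,o,v,v,v), (v,w,w,w,w), (v,w,v,v,v), (v,v,o,v,v),
  (v,v,w,v,v), (v,v,v,o,v), (v,v,v,w,v), (v,v,v,v,o), (v,v,v,v,w)]

def LB : List F5 := [
  (z,o,o,o,o), (z,w,w,w,w), (z,v,v,v,v), (o,z,o,o,o), (o,o,z,o,o), (o,o,o,z,o), (o,o,o,o,z), (w,z,w,w,w),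
  (w,w,z,w,w), (w,w,w,z,w), (w,w,w,w,z), (v,z,v,v,v), (v,v,z,v,v), (v,v,v,z,v), (v,v,v,v,z)]

def T1 : List (F4 × F4 × F4) := [(z,z,o), (z,z,w), (z,z,v)]

def T2 : List (F4 × F4 × F4) := [(o,o,z), (o,w,z), (o,v,z), (w,o,z), (w,w,z), (w,v,z), (v,o,z), (v,w,z), (v,v,z)]

theorem keyT : ∀ a b d : F4, a * frob a + d * frob d = 1 → b * frob b + d * frob d = 1 →
    (a, b, d) ∈ T1 ∨ (a, b, d) ∈ T2 := by decide +kernel

theorem keyA : ∀ c0 c1 c2 c3 c4 : F4, c0 * frob c0 + c1 * frob c1 + c2 * frob c2 + c3 * frob c3 + c4 * frob c4 = 1 →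
    c0 * frob c1 + c1 * frob c2 + c2 * frob c3 + c3 * frob c4 + c4 * frob c0 = 0 →
    c0 * frob c2 + c1 * frob c3 + c2 * frob c4 + c3 * frob c0 + c4 * frob c1 = 0 → (c0, c1, c2, c3, c4) ∈ LA := by
  decide +kernel

theorem keyB : ∀ c0 c1 c2 c3 c4 : F4, c0 + c1 + c2 + c3 + c4 = 0 →
    c0 * frob c0 + c1 * frob c1 + c2 * frob c2 + c3 * frob c3 + c4 * frob c4 = 0 →
    c0 * frob c1 + c1 * frob c2 + c2 * frob c3 + c3 * frob c4 + c4 * frob c0 = 1 →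
    c0 * frob c2 + c1 * frob c3 + c2 * frob c4 + c3 * frob c0 + c4 * frob c1 = 1 → (c0, c1, c2, c3, c4) ∈ LB := by
  decide +kernel

end Cfsg.Agent.H121.RIM
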