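import Cfsg.Agent.H121.RIM.Lift
import Cfsg.Agent.H559.Row.USix
import Cfsg.Agent.H559.USixSpec
import Cfsg.Agent.S0280

/-!
# S4816, `U₆(2)`: 13 good classes (helper121)

orders `1 3 6 6 9 9 12 12 18 18 7 11 11`.
-/

set_option autoImplicit false
set_option linter.unusedSectionVars false

namespace Cfsg.Agent.H121.RIM

open Cfsg Matrix Cfsg.Agent.SporadicA.FieldFour F4 Cfsg.Agent.H852.USixElts Cfsg.Agent.H80.Fpf
open Cfsg.Agent.LieClassical.SUBasic Cfsg.Agent.H559.Row.USix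

/-! ### the matrices -/

def U1 : M6 := !![z,o,z,z,z,z; o,z,z,z,z,z; z,z,o,z,z,z; z,z,z,o,z,z; z,z,z,z,w,z; z,z,z,z,z,v]
def U2 : M6 := !![z,o,z,z,z,z; o,z,z,z,z,z; z,z,z,o,z,z; z,z,o,z,z,z; z,z,z,z,w,z; z,z,z,z,z,v]
def U3 : M6 := !![o,o,o,z,z,z; o,w,v,z,z,z; o,v,w,z,z,z; z,z,z,o,z,z; z,z,z,z,w,z; z,z,z,z,z,v]
def U4 : M6 := !![z,z,z,o,z,z; o,z,z,z,z,z; z,o,z,z,z,z; z,z,o,z,z,z; z,z,z,z,w,z; z,z,z,z,z,v]
def G9A : M6 := !![z,z,w,z,z,z; o,z,z,z,z,z; z,o,z,z,z,z; z,z,z,o,z,z; z,z,z,z,o,z; z,z,z,z,z,v]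

set_option maxRecDepth 100000

theorem U1_st : st U1 * U1 = 1 := by decide +kernel
theorem U2_st : st U2 * U2 = 1 := by decide +kernel
theorem U3_st : st U3 * U3 = 1 := by decide +kernel
theorem U4_st : st U4 * U4 = 1 := by decide +kernel
theorem G9A_st : st G9A * G9A = 1 := by decide +kernel
theorem U1_det : U1.det = 1 := by decide +kernel
theorem U2_det : U2.det = 1 := by decide +kernel
theorem U3_det : U3.det = 1 := by decide +kernel
theorem U4_det : U4.det = 1 := by decide +kernel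
theorem G9A_det : G9A.det = 1 := by decide +kernel

def u1 : SU 6 F4 2 := mk U1 U1_st U1_det
def u2 : SU 6 F4 2 := mk U2 U2_st U2_det
def u3 : SU 6 F4 2 := mk U3 U3_st U3_det
def u4 : SU 6 F4 2 := mk U4 U4_st U4_det
def g9a : SU 6 F4 2 := mk G9A G9A_st G9A_det

theorem pw {g h : SU 6 F4 2} {n : ℕ} (H : mat g ^ n = mat h) : pr g ^ n = pr h := by
  rw [← map_pow]
  exact congrArg pr (mat_inj (by rw [mat_pow, H]))

theorem pw_one {g : SU 6 F4 2} {n : ℕ} (H : mat g ^ n = 1) : pr g ^ n = 1 := by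
  rw [← map_pow, ← map_one pr]
  exact congrArg pr (mat_inj (by rw [mat_pow, H, mat_one]))

theorem pw_ne {g : SU 6 F4 2} {n : ℕ} (i j : Fin 6) (hij : i ≠ j) (H : (mat g ^ n) i j ≠ 0) : pr g ^ n ≠ 1 := by
  rw [← map_pow]
  exact pr_ne_one i j hij (by rw [mat_pow]; exact H)

theorem pw_ne' {g : SU 6 F4 2} {n : ℕ} (i j : Fin 6) (H : (mat g ^ n) i i ≠ (mat g ^ n) j j) : pr g ^ n ≠ 1 := by
  intro h
  rw [← map_pow] at h
  obtain ⟨c, -, hc⟩ := pr_eq_one h
  rw [mat_pow] at hc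
  apply H
  rw [hc]
  simp

theorem order_of {s : PSU 6 F4 2} {n : ℕ} (hn : 0 < n) (h : s ^ n = 1)
    (h2 : ∀ p : ℕ, p.Prime → p ∣ n → s ^ (n / p) ≠ 1) : orderOf s = n :=
  orderOf_eq_of_pow_and_pow_div_prime hn h h2

theorem primes_six {n : ℕ} (hn : n ∣ 216) {p : ℕ} (hp : p.Prime) (h : p ∣ n) : p = 2 ∨ p = 3 := by
  have h2 : p ∣ 2 ^ 3 * 3 ^ 3 := by
    have := h.trans hn
    simpa using this
  rcases hp.dvd_mul.1 h2 with h3 | h3
  · exact Or.inl ((Nat.prime_dvd_prime_iff_eq hp Nat.prime_two).1 (hp.dvd_of_dvd_pow h3))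
  · exact Or.inr ((Nat.prime_dvd_prime_iff_eq hp (by norm_num)).1 (hp.dvd_of_dvd_pow h3))

theorem order_six {g : SU 6 F4 2} (h6 : mat g ^ 6 = 1) (h3 : (mat g ^ 3) 0 1 ≠ 0)
    (h2 : (mat g ^ 2) 0 0 ≠ (mat g ^ 2) 4 4) : orderOf (pr g) = 6 := by
  refine order_of (by norm_num) (pw_one h6) fun p hp hd => ?_
  rcases primes_six (by norm_num) hp hd with rfl | rfl
  · exact pw_ne 0 1 (by decide) h3
  · exact pw_ne' 0 4 h2

theorem order_u1 : orderOf (pr u1) = 6 := by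
  refine order_six ?_ ?_ ?_
  · show U1 ^ 6 = 1
    decide +kernel
  · show (U1 ^ 3) 0 1 ≠ 0
    decide +kernel
  · show (U1 ^ 2) 0 0 ≠ (U1 ^ 2) 4 4
    decide +kernel

theorem order_u2 : orderOf (pr u2) = 6 := by
  refine order_six ?_ ?_ ?_
  · show U2 ^ 6 = 1
    decide +kernel
  · show (U2 ^ 3) 0 1 ≠ 0
    decide +kernel
  · show (U2 ^ 2) 0 0 ≠ (U2 ^ 2) 4 4
    decide +kernel

theorem order_u3 : orderOf (pr u3) = 12 := by
  refine order_of (by norm_num) (pw_one ?_) fun p hp hd => ?_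
  · show U3 ^ 12 = 1
    decide +kernel
  rcases primes_six (by norm_num) hp hd with rfl | rfl
  · refine pw_ne 1 2 (by decide) ?_
    show (U3 ^ 6) 1 2 ≠ 0
    decide +kernel
  · refine pw_ne' 0 4 ?_
    show (U3 ^ 4) 0 0 ≠ (U3 ^ 4) 4 4
    decide +kernel

theorem order_u4 : orderOf (pr u4) = 12 := by
  refine order_of (by norm_num) (pw_one ?_) fun p hp hd => ?_
  · show U4 ^ 12 = 1
    decide +kernel
  rcases primes_six (by norm_num) hp hd with rfl | rfl
  · refine pw_ne 0 2 (by decide) ?_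
    show (U4 ^ 6) 0 2 ≠ 0
    decide +kernel
  · refine pw_ne' 0 4 ?_
    show (U4 ^ 4) 0 0 ≠ (U4 ^ 4) 4 4
    decide +kernel

theorem order_g9a : orderOf (pr g9a) = 9 := by
  refine order_of (by norm_num) (pw_one ?_) fun p hp hd => ?_
  · show G9A ^ 9 = 1
    decide +kernel
  rcases primes_six (by norm_num) hp hd with rfl | rfl
  · exact absurd hd (by norm_num)
  · refine pw_ne' 0 4 ?_
    show (G9A ^ 3) 0 0 ≠ (G9A ^ 3) 4 4
    decide +kernel

/-! ### centralizers inside `SU₅` -/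

theorem inT_z3 : InT (pr z3) := by
  intro a ha
  obtain ⟨h, rfl⟩ := QuotientGroup.mk'_surjective (Subgroup.center (SU 6 F4 2)) a
  have hc := comm_of (g := z3) (h := h) (by
    show Z3.trace ≠ 0
    decide +kernel) ha
  have hd : Z3 = diagonal ![1, 1, 1, 1, w, v] := by decide +kernel
  have hc' : mat h * Z3 = Z3 * mat h := hc
  rw [hd] at hc'
  refine exists_emb' fun i hi => ⟨?_, ?_⟩
  · have h1 := congrFun (congrFun hc' i) 5
    rw [mul_diagonal, diagonal_mul] at h1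
    have h2 : ∀ (i : Fin 6) (a : F4), i ≠ 5 → a * (![1, 1, 1, 1, w, v] : Fin 6 → F4) 5 =
        (![1, 1, 1, 1, w, v] : Fin 6 → F4) i * a → a = 0 := by decide +kernel
    exact h2 i _ hi h1
  · have h1 := congrFun (congrFun hc' 5) i
    rw [mul_diagonal, diagonal_mul] at h1
    have h2 : ∀ (i : Fin 6) (a : F4), i ≠ 5 → a * (![1, 1, 1, 1, w, v] : Fin 6 → F4) i =
        (![1, 1, 1, 1, w, v] : Fin 6 → F4) 5 * a → a = 0 := by decide +kernel
    exact h2 i _ hi h1

theorem inT_g9a : InT (pr g9a) := by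
  intro a ha
  obtain ⟨h, rfl⟩ := QuotientGroup.mk'_surjective (Subgroup.center (SU 6 F4 2)) a
  have hc := comm_of (g := g9a) (h := h) (by
    show G9A.trace ≠ 0
    decide +kernel) ha
  have hc' : mat h * G9A = G9A * mat h := hc
  have hr : ∀ (A : M6) (i : Fin 6), (A * G9A) i 5 = A i 5 * v := by
    intro A i
    rw [Matrix.mul_apply, Fin.sum_univ_six]
    show A i 0 * z + A i 1 * z + A i 2 * z + A i 3 * z + A i 4 * z + A i 5 * v = _
    have : ∀ a b c d e f : F4, a * z + b * z + c * z + d * z + e * z + f * v = f * v := by decide +kernel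
    exact this _ _ _ _ _ _
  have hl : ∀ (A : M6), (G9A * A) 0 5 = w * A 2 5 ∧ (G9A * A) 1 5 = A 0 5 ∧ (G9A * A) 2 5 = A 1 5 ∧
      (G9A * A) 3 5 = A 3 5 ∧ (G9A * A) 4 5 = A 4 5 := by
    intro A
    have key : ∀ a b c d e f : F4, (z * a + z * b + w * c + z * d + z * e + z * f = w * c) ∧
        (o * a + z * b + z * c + z * d + z * e + z * f = a) ∧ (z * a + o * b + z * c + z * d + z * e + z * f = b) ∧
        (z * a + z * b + z * c + o * d + z * e + z * f = d) ∧ (z * a + z * b + z * c + z * d + o * e + z * f = e) := by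
      decide +kernel
    obtain ⟨k1, k2, k3, k4, k5⟩ := key (A 0 5) (A 1 5) (A 2 5) (A 3 5) (A 4 5) (A 5 5)
    refine ⟨?_, ?_, ?_, ?_, ?_⟩ <;> rw [Matrix.mul_apply, Fin.sum_univ_six] <;> assumption
  have hu : ∀ (A : M6), (A * G9A) 5 0 = A 5 1 ∧ (A * G9A) 5 1 = A 5 2 ∧ (A * G9A) 5 2 = A 5 0 * w ∧
      (A * G9A) 5 3 = A 5 3 ∧ (A * G9A) 5 4 = A 5 4 := by
    intro A
    have key : ∀ a b c d e f : F4, (a * z + b * o + c * z + d * z + e * z + f * z = b) ∧
        (a * z + b * z + c * o + d * z + e * z + f * z = c) ∧ (a * w + b * z + c * z + d * z + e * z + f * z = a * w) ∧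
        (a * z + b * z + c * z + d * o + e * z + f * z = d) ∧ (a * z + b * z + c * z + d * z + e * o + f * z = e) := by
      decide +kernel
    obtain ⟨k1, k2, k3, k4, k5⟩ := key (A 5 0) (A 5 1) (A 5 2) (A 5 3) (A 5 4) (A 5 5)
    refine ⟨?_, ?_, ?_, ?_, ?_⟩ <;> rw [Matrix.mul_apply, Fin.sum_univ_six] <;> assumption
  have hd : ∀ (A : M6) (i : Fin 6), (G9A * A) 5 i = v * A 5 i := by
    intro A i
    rw [Matrix.mul_apply, Fin.sum_univ_six]
    show z * A 0 i + z * A 1 i + z * A 2 i + z * A 3 i + z * A 4 i + v * A 5 i = _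
    have : ∀ a b c d e f : F4, z * a + z * b + z * c + z * d + z * e + v * f = v * f := by decide +kernel
    exact this _ _ _ _ _ _
  obtain ⟨l0, l1, l2, l3, l4⟩ := hl (mat h)
  obtain ⟨r0, r1, r2, r3, r4⟩ := hu (mat h)
  rw [← hc', hr] at l0 l1 l2 l3 l4
  rw [hc', hd] at r0 r1 r2 r3 r4
  have k1 : ∀ a b c : F4, a * v = w * c → b * v = a → c * v = b → a = 0 ∧ b = 0 ∧ c = 0 := by decide +kernel
  have k2 : ∀ a : F4, a * v = a → a = 0 := by decide +kernel
  have k3 : ∀ a b c : F4, v * a = b → v * b = c → v * c = a * w → a = 0 ∧ b = 0 ∧ c = 0 := by decide +kernel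
  have k4 : ∀ a : F4, v * a = a → a = 0 := by decide +kernel
  obtain ⟨c0, c1, c2⟩ := k1 _ _ _ l0 l1 l2
  obtain ⟨e0, e1, e2⟩ := k3 _ _ _ r0 r1 r2
  refine exists_emb' fun i hi => ?_
  fin_cases i
  · exact ⟨c0, e0⟩
  · exact ⟨c1, e1⟩
  · exact ⟨c2, e2⟩
  · exact ⟨k2 _ l3, k4 _ r3⟩
  · exact ⟨k2 _ l4, k4 _ r4⟩
  · exact absurd rfl hi

theorem good_u1 : AGood (pr u1) := aGood_of_T (inT_z3.of_pow (k := 4) (pw (by
  show U1 ^ 4 = Z3
  decide +kernel)))

theorem good_u2 : AGood (pr u2) := aGood_of_T (inT_z3.of_pow (k := 4) (pw (by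
  show U2 ^ 4 = Z3
  decide +kernel)))

theorem good_u3 : AGood (pr u3) := aGood_of_T (inT_z3.of_pow (k := 4) (pw (by
  show U3 ^ 4 = Z3
  decide +kernel)))

theorem good_u4 : AGood (pr u4) := aGood_of_T (inT_z3.of_pow (k := 4) (pw (by
  show U4 ^ 4 = Z3
  decide +kernel)))

theorem good_g18 : AGood (pr g18) := aGood_of_T (inT_g9a.of_pow (k := 10) (pw (by
  show G18 ^ 10 = G9A
  decide +kernel)))

theorem good_z3 : AGood (pr z3) := aGood_of_T inT_z3

theorem good_g9a : AGood (pr g9a) := aGood_of_T inT_g9a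

/-! ### elements of order 7 and 11 -/

theorem card_S : Nat.card (PSU 6 F4 2) = 9196830720 := by
  have h := S0280.result hF 6 (by norm_num)
  rw [show Nat.gcd 6 (2 + 1) = 3 by decide] at h
  simp only [Finset.prod_range_succ, Finset.prod_range_zero] at h
  norm_num [Nat.even_iff] at h
  omega

theorem finite_S : Finite (PSU 6 F4 2) := Nat.finite_of_card_ne_zero (by rw [card_S]; norm_num)

/-- the centralizer of an element of prime order (helper410) -/
theorem cent_of_orders {S : Type*} [Group S] [Finite S] {p : ℕ} (hp : p.Prime) {x : S} (hx : orderOf x = p)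
    (h2 : ¬ p ^ 2 ∣ Nat.card S) (h : ∀ g : S, p ∣ orderOf g → g ^ p = 1) :
    Nat.card (Subgroup.centralizer ({x} : Set S)) = p := by
  have : Fact p.Prime := ⟨hp⟩
  set C := Subgroup.centralizer ({x} : Set S) with hC
  have hxC : x ∈ C := by
    rw [hC, Subgroup.mem_centralizer_singleton_iff]
  have hpd : p ∣ Nat.card C := by
    have h1 := orderOf_dvd_natCard (⟨x, hxC⟩ : C)
    rwa [Subgroup.orderOf_mk, hx] at h1
  have hpow : ∀ c ∈ C, c ^ p = 1 := by
    intro c hc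
    have hcx : Commute c x := by
      have h1 := (Subgroup.mem_centralizer_singleton_iff).1 hc
      exact h1
    by_cases hd : p ∣ orderOf c
    · exact h c hd
    · have hcop : Nat.Coprime (orderOf c) (orderOf x) := by
        rw [hx]
        exact ((Nat.Prime.coprime_iff_not_dvd hp).2 hd).symm
      have h1 := hcx.orderOf_mul_eq_mul_orderOf_of_coprime hcop
      have h3 := h (c * x) (by rw [h1, hx]; exact dvd_mul_left _ _)
      have h4 := orderOf_dvd_of_pow_eq_one h3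
      rw [h1, hx] at h4
      have h5 : orderOf c ∣ 1 := Nat.dvd_of_mul_dvd_mul_right hp.pos (by rwa [one_mul])
      have h6 := orderOf_eq_one_iff.1 (Nat.dvd_one.1 h5)
      rw [h6, one_pow]
  have hpg : IsPGroup p C := fun c => ⟨1, Subtype.ext (by rw [pow_one]; exact hpow c c.2)⟩
  obtain ⟨n, hn⟩ := IsPGroup.iff_card.1 hpg
  have h3 : n ≤ 1 := by
    by_contra hcon
    apply h2
    exact (pow_dvd_pow p (by omega)).trans (hn ▸ Subgroup.card_subgroup_dvd_card C)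
  have h4 : n ≠ 0 := by
    rintro rfl
    rw [hn, pow_zero] at hpd
    exact hp.one_lt.ne' (Nat.dvd_one.1 hpd)
  rw [hn, show n = 1 by omega, pow_one]

theorem cent_seven {x : PSU 6 F4 2} (hx : orderOf x = 7) :
    Nat.card (Subgroup.centralizer ({x} : Set (PSU 6 F4 2))) = 7 := by
  have := finite_S
  exact cent_of_orders (by norm_num) hx (by rw [card_S]; norm_num)
    fun g hg => Cfsg.Agent.H559.USixSpec.seven (F := F4) rfl g hg

theorem cent_eleven {x : PSU 6 F4 2} (hx : orderOf x = 11) :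
    Nat.card (Subgroup.centralizer ({x} : Set (PSU 6 F4 2))) = 11 := by
  have := finite_S
  exact cent_of_orders (by norm_num) hx (by rw [card_S]; norm_num)
    fun g hg => Cfsg.Agent.H559.USixSpec.eleven (F := F4) rfl g hg

theorem good_x7 : AGood (pr x7) := by
  have := finite_S
  exact AGood.of_card (by rw [cent_seven order_x7, order_x7])

theorem good_y11 : AGood (pr y11) := by
  have := finite_S
  exact AGood.of_card (by rw [cent_eleven order_y11, order_y11])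

/-! ### not conjugate -/

theorem cube_of_conj {g h : SU 6 F4 2} (hc : IsConj (pr g) (pr h)) :
    ∃ a : SU 6 F4 2, mat a * mat g ^ 3 = mat h ^ 3 * mat a := by
  obtain ⟨b, hb⟩ := isConj_iff.1 hc
  obtain ⟨a, rfl⟩ := QuotientGroup.mk'_surjective (Subgroup.center (SU 6 F4 2)) b
  refine ⟨a, ?_⟩
  have h1 : pr ((a * g) * (h * a)⁻¹) = 1 := by
    rw [map_mul, map_inv, map_mul, map_mul, ← hb]
    group
  obtain ⟨c, hc3, h2⟩ := pr_eq_one h1
  have h4 : a * g * a⁻¹ = ((a * g) * (h * a)⁻¹) * h := by group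
  have h5 : mat (a * g * a⁻¹) = c • mat h := by
    rw [h4, mat_mul, h2, smul_mul_assoc, one_mul]
  have h6 : mat (a * g ^ 3 * a⁻¹) = mat h ^ 3 := by
    rw [← conj_pow, mat_pow, h5, smul_pow, hc3, one_smul]
  rw [← mat_pow, ← mat_mul, ← h6, ← mat_mul, inv_mul_cancel_right]

theorem trace_of_conj {g h : SU 6 F4 2} (hc : IsConj (pr g) (pr h)) : (mat g ^ 3).trace = (mat h ^ 3).trace := by
  obtain ⟨a, ha⟩ := cube_of_conj hc
  have h1 : mat g ^ 3 = st (mat a) * (mat h ^ 3 * mat a) := by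
    rw [← ha, ← mul_assoc, st_mat, one_mul]
  rw [h1, ← mul_assoc, Matrix.trace_mul_comm, ← mul_assoc, mat_mul_st, one_mul]

theorem mat_inv (g : SU 6 F4 2) : mat g⁻¹ = st (mat g) := by
  have h1 : mat g * mat g⁻¹ = 1 := by rw [← mat_mul, mul_inv_cancel, mat_one]
  calc mat g⁻¹ = (st (mat g) * mat g) * mat g⁻¹ := by rw [st_mat, one_mul]
    _ = st (mat g) := by rw [mul_assoc, h1, mul_one]

theorem nc_inv {g : SU 6 F4 2} {G : M6} (hG : mat g = G) (h : (G ^ 3).trace ≠ (st G ^ 3).trace) :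
    ¬ IsConj (pr g) (pr g)⁻¹ := by
  intro hc
  rw [← map_inv] at hc
  apply h
  have h1 := trace_of_conj hc
  rwa [mat_inv, hG] at h1

theorem nc_g9a : ¬ IsConj (pr g9a) (pr g9a)⁻¹ := nc_inv (G := G9A) rfl (by decide +kernel)

theorem nc_g18 : ¬ IsConj (pr g18) (pr g18)⁻¹ := nc_inv (G := G18) rfl (by decide +kernel)

theorem nc_y11 : ¬ IsConj (pr y11) (pr y11)⁻¹ := nc_inv (G := Z11) rfl (by decide +kernel)

theorem nc_u34 : ¬ IsConj (pr u3) (pr u4) := by
  intro hc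
  obtain ⟨a, ha⟩ := cube_of_conj hc
  have h1 : mat a * (mat u3 ^ 3 - 1) = (mat u4 ^ 3 - 1) * mat a := by
    rw [mul_sub, sub_mul, ha, mul_one, one_mul]
  have h2 : mat a * (mat u3 ^ 3 - 1) ^ 3 = (mat u4 ^ 3 - 1) ^ 3 * mat a := by
    have h3 : SemiconjBy (mat a) (mat u3 ^ 3 - 1) (mat u4 ^ 3 - 1) := h1
    exact (h3.pow_right 3)
  have h3 : (mat u3 ^ 3 - 1) ^ 3 = 0 := by
    show (U3 ^ 3 - 1) ^ 3 = 0
    decide +kernel
  rw [h3, mul_zero] at h2
  have h4 : (mat u4 ^ 3 - 1) ^ 3 = 0 := by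
    calc (mat u4 ^ 3 - 1) ^ 3 = (mat u4 ^ 3 - 1) ^ 3 * mat a * st (mat a) := by
          rw [mul_assoc, mat_mul_st, mul_one]
      _ = 0 := by rw [← h2, zero_mul]
  have h5 : (U4 ^ 3 - 1) ^ 3 ≠ 0 := by decide +kernel
  exact h5 h4

theorem nc_u12 : ¬ IsConj (pr u1) (pr u2) := by
  intro hc
  obtain ⟨a, ha⟩ := cube_of_conj hc
  have h1 : mat a * (mat u1 ^ 3 - 1) = (mat u2 ^ 3 - 1) * mat a := by
    rw [mul_sub, sub_mul, ha, mul_one, one_mul]
  have h3 : mat u1 ^ 3 - 1 = Matrix.vecMulVec ![1, 1, 0, 0, 0, 0] ![1, 1, 0, 0, 0, 0] := by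
    show U1 ^ 3 - 1 = _
    decide +kernel
  have h4 : mat u2 ^ 3 - 1 = Matrix.vecMulVec (mat a *ᵥ ![1, 1, 0, 0, 0, 0]) (![1, 1, 0, 0, 0, 0] ᵥ* st (mat a)) := by
    rw [← Matrix.mul_vecMulVec, ← Matrix.vecMulVec_mul, ← h3, ← mul_assoc, h1, mul_assoc, mat_mul_st, mul_one]
  have h5 : ∀ i j, (U2 ^ 3 - 1 : M6) i j = (mat a *ᵥ ![1, 1, 0, 0, 0, 0]) i * (![1, 1, 0, 0, 0, 0] ᵥ* st (mat a)) j := by
    intro i j
    exact congrFun (congrFun h4 i) j
  have h6 : (U2 ^ 3 - 1 : M6) 0 0 * (U2 ^ 3 - 1 : M6) 2 2 = (U2 ^ 3 - 1 : M6) 0 2 * (U2 ^ 3 - 1 : M6) 2 0 := by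
    rw [h5, h5, h5, h5]
    ring
  revert h6
  decide +kernel

/-- **The list.** -/
theorem exists_list : ∃ f : Fin 13 → PSU 6 F4 2, (∀ i j, IsConj (f i) (f j) → i = j) ∧
    (∀ i, orderOf (f i) = (![1, 3, 6, 6, 9, 9, 12, 12, 18, 18, 7, 11, 11] : Fin 13 → ℕ) i) ∧ ∀ i, AGood (f i) := by
  let f : Fin 13 → PSU 6 F4 2 := ![1, pr z3, pr u1, pr u2, pr g9a, (pr g9a)⁻¹, pr u3, pr u4, pr g18, (pr g18)⁻¹,
    pr x7, pr y11, (pr y11)⁻¹]
  have ho : ∀ i, orderOf (f i) = (![1, 3, 6, 6, 9, 9, 12, 12, 18, 18, 7, 11, 11] : Fin 13 → ℕ) i := by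
    intro i
    fin_cases i
    · exact orderOf_one
    · exact order_z3
    · exact order_u1
    · exact order_u2
    · exact order_g9a
    · exact (orderOf_inv _).trans order_g9a
    · exact order_u3
    · exact order_u4
    · exact order_g18
    · exact (orderOf_inv _).trans order_g18
    · exact order_x7
    · exact order_y11
    · exact (orderOf_inv _).trans order_y11
  refine ⟨f, ?_, ho, ?_⟩
  · have hnc : ∀ i j : Fin 13, (i, j) ∈ [((2 : Fin 13), (3 : Fin 13)), (4, 5), (6, 7), (8, 9), (11, 12)] →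
        ¬ IsConj (f i) (f j) := by
      intro i j hij
      simp only [List.mem_cons, List.not_mem_nil, or_false, Prod.mk.injEq] at hij
      rcases hij with ⟨rfl, rfl⟩ | ⟨rfl, rfl⟩ | ⟨rfl, rfl⟩ | ⟨rfl, rfl⟩ | ⟨rfl, rfl⟩
      · exact nc_u12
      · exact nc_g9a
      · exact nc_u34
      · exact nc_g18
      · exact nc_y11
    intro i j hij
    have h1 : orderOf (f i) = orderOf (f j) := by
      obtain ⟨c, hc⟩ := isConj_iff.1 hij
      rw [← hc]
      exact (orderOf_injective (MulAut.conj c).toMonoidHom (MulAut.conj c).injective _).symm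
    rw [ho, ho] at h1
    have h2 := fun h => hnc i j h hij
    have h3 := fun h => hnc j i h hij.symm
    have key : ∀ i j : Fin 13, (![1, 3, 6, 6, 9, 9, 12, 12, 18, 18, 7, 11, 11] : Fin 13 → ℕ) i =
        (![1, 3, 6, 6, 9, 9, 12, 12, 18, 18, 7, 11, 11] : Fin 13 → ℕ) j →
        i = j ∨ (i, j) ∈ [((2 : Fin 13), (3 : Fin 13)), (4, 5), (6, 7), (8, 9), (11, 12)] ∨
        (j, i) ∈ [((2 : Fin 13), (3 : Fin 13)), (4, 5), (6, 7), (8, 9), (11, 12)] := by decide
    rcases key i j h1 with h | h | h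
    · exact h
    · exact (h2 h).elim
    · exact (h3 h).elim
  · intro i
    fin_cases i
    · exact AGood.one
    · exact good_z3
    · exact good_u1
    · exact good_u2
    · exact good_g9a
    · exact good_g9a.inv
    · exact good_u3
    · exact good_u4
    · exact good_g18
    · exact good_g18.inv
    · exact good_x7
    · exact good_y11
    · exact good_y11.inv

end Cfsg.Agent.H121.RIM
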