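import Cfsg.Agent.H242.RIM.Mat
import Cfsg.Agent.H700.FpfPsu.Deg
import Cfsg.Agent.H852.USixElts

/-!
# S4816, `U₆(2)`: `SU₅(2)` lifts to every cover (helper121)

* `exists_lift` : a perfect group whose covers are trivial lifts to every central extension;
* `AGood s` : lifts of `s` and of elements of the centralizer of `s` commute, in every cover;
* `aGood_of_T` : elements of `PSU₆(2)` whose centralizer fixes a nonisotropic point are good.
-/

set_option autoImplicit false
set_option linter.unusedSectionVars false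

namespace Cfsg.Agent.H121.RIM

open Cfsg Subgroup
open Cfsg.Agent.H80.Fpf

open scoped commutatorElement

/-- A perfect group without proper covers lifts to every central extension. -/
theorem exists_lift {T S L : Type} [Group T] [Finite T] [Group S] [Group L] [Finite L] (hT : MultDvd T 1)
    (hTp : commutator T = ⊤) {π : L →* S} (hs : Function.Surjective π) (hc : π.ker ≤ center L) (ι : T →* S) :
    ∃ j : T →* L, ∀ t, π (j t) = ι t := by
  let P : Subgroup (T × L) := (ι.comp (MonoidHom.fst T L)).eqLocus (π.comp (MonoidHom.snd T L))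
  have hP : ∀ p : P, ι (p : T × L).1 = π (p : T × L).2 := fun p => p.2
  let f : P →* T := (MonoidHom.fst T L).comp P.subtype
  have hfs : Function.Surjective f := by
    intro t
    obtain ⟨l, hl⟩ := hs (ι t)
    exact ⟨⟨(t, l), hl.symm⟩, rfl⟩
  have hfc : f.ker ≤ Subgroup.center P := by
    intro z hz
    have h1 : (z : T × L).1 = 1 := hz
    have h2 : π (z : T × L).2 = 1 := by rw [← hP, h1, map_one]
    have h4 := hc ((MonoidHom.mem_ker).2 h2)
    rw [Subgroup.mem_center_iff]
    intro p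
    apply Subtype.ext
    refine Prod.ext ?_ (Subgroup.mem_center_iff.1 h4 _)
    show (p : T × L).1 * (z : T × L).1 = (z : T × L).1 * (p : T × L).1
    rw [h1, one_mul, mul_one]
  obtain ⟨h1, h2⟩ := perf_commutator hfs hfc hTp
  let E := commutator P
  let e : E →* T := f.comp E.subtype
  have hE : IsCover e := by
    refine ⟨?_, ?_, h1⟩
    · intro k
      have h3 : k ∈ (commutator P).map f := by rw [h2]; trivial
      obtain ⟨m, hm, rfl⟩ := h3
      exact ⟨⟨m, hm⟩, rfl⟩
    · intro z hz
      rw [Subgroup.mem_center_iff]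
      intro y
      apply Subtype.ext
      exact Subgroup.mem_center_iff.1 (hfc (show (z : P) ∈ f.ker from hz)) y
  have hk : Nat.card e.ker = 1 := Nat.dvd_one.1 (hT E e hE)
  have hinj : Function.Injective e := by
    rw [← MonoidHom.ker_eq_bot_iff]
    exact Subgroup.card_eq_one.1 hk
  let ε : E ≃* T := MulEquiv.ofBijective e ⟨hinj, hE.surj⟩
  refine ⟨((MonoidHom.snd T L).comp P.subtype).comp (E.subtype.comp ε.symm.toMonoidHom), fun t => ?_⟩
  have h3 : e (ε.symm t) = t := ε.apply_symm_apply t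
  have h4 := hP (ε.symm t : E)
  exact h4.symm.trans (congrArg ι h3)

/-- `s` is good in every cover: lifts of commuting elements commute. -/
def AGood {S : Type} [Group S] (s : S) : Prop :=
  ∀ (L : Type) [Group L] [Finite L] (π : L →* S), IsCover π → ∀ g y : L, π g = s → π y * s = s * π y → g * y = y * g

theorem AGood.inv {S : Type} [Group S] {s : S} (h : AGood s) : AGood s⁻¹ := by
  intro L _ _ π hπ g y hg hy
  have h1 := h L π hπ g⁻¹ y (by rw [map_inv, hg, inv_inv]) (by
    have h2 : Commute (π y) s⁻¹ := hy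
    exact (Commute.inv_right_iff.1 h2).eq)
  have h2 : Commute g⁻¹ y := h1
  exact (Commute.inv_left_iff.1 h2).eq

theorem AGood.one {S : Type} [Group S] : AGood (1 : S) := by
  intro L _ _ π hπ g y hg _
  exact (mem_center_iff.1 (hπ.central ((MonoidHom.mem_ker).2 hg)) y).symm

/-- self-centralizing elements are good -/
theorem AGood.of_self {S : Type} [Group S] {s : S} (h : ∀ t : S, t * s = s * t → t ∈ zpowers s) : AGood s := by
  intro L _ _ π hπ g y hg hy
  obtain ⟨k, hk⟩ := mem_zpowers_iff.1 (h _ hy)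
  have h1 : y * (g ^ k)⁻¹ ∈ π.ker := by
    rw [MonoidHom.mem_ker, map_mul, map_inv, map_zpow, hg, hk, mul_inv_cancel]
  have h2 := mem_center_iff.1 (hπ.central h1)
  have h3 : y = (y * (g ^ k)⁻¹) * g ^ k := by group
  have h4 : Commute g (y * (g ^ k)⁻¹) := h2 g
  have h5 : Commute g y := by
    rw [h3]
    exact h4.mul_right ((Commute.refl g).zpow_right k)
  exact h5.eq

theorem AGood.of_card {S : Type} [Group S] [Finite S] {s : S}
    (h : Nat.card (centralizer ({s} : Set S)) = orderOf s) : AGood s := by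
  refine AGood.of_self fun t ht => ?_
  have h1 : zpowers s ≤ centralizer ({s} : Set S) := by
    rw [zpowers_le, mem_centralizer_singleton_iff]
  have h2 : zpowers s = centralizer ({s} : Set S) :=
    Subgroup.eq_of_le_of_card_ge h1 (by rw [h, Nat.card_zpowers])
  rw [h2, mem_centralizer_singleton_iff]
  exact ht

section five

open Cfsg.Agent.SporadicA.FieldFour Cfsg.Agent.H852.USixElts Cfsg.Agent.H494.PSURow Cfsg.Agent.H242.RIM
open Cfsg.Agent.LieClassical.SUBasic Matrix

/-- `SU₅ → SU₆`, fixing the last coordinate vector -/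
def emb : SU 5 F4 2 →* SU 6 F4 2 := (blk 5 1 F4 2).comp (MonoidHom.inl (SU 5 F4 2) (SU 1 F4 2))

theorem emb_inj {t : SU 5 F4 2} (h : pr (emb t) = 1) : t = 1 := by
  have h1 : blk 5 1 F4 2 (t, 1) ∈ Subgroup.center (SU (5 + 1) F4 2) := (QuotientGroup.eq_one_iff _).1 h
  exact eq_one_left hF (by norm_num) (by norm_num) h1

theorem perf_five : commutator (SU 5 F4 2) = ⊤ :=
  Cfsg.Agent.LieClassical.HermPerfect.commutator_SU_eq_top hF (by norm_num) (by norm_num)

theorem center_five : Subgroup.center (SU 5 F4 2) = ⊥ := by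
  rw [eq_bot_iff]
  intro A hA
  obtain ⟨c, hcn, hcq, rfl⟩ := (mem_center_SU_iff hF (by norm_num) A).1 hA
  have hc : c = 1 := by
    have h3 : c ^ 3 = 1 := hcq
    have h5 : c ^ 5 = 1 := hcn
    calc c = c ^ 5 * c := by rw [h5, one_mul]
      _ = (c ^ 3) ^ 2 := by ring
      _ = 1 := by rw [h3, one_pow]
  subst hc
  rw [Subgroup.mem_bot]
  refine Subtype.ext (Subtype.ext ?_)
  exact diagonal_one

theorem multDvd_five : MultDvd (SU 5 F4 2) 1 := by
  have h1 : MultDvd (PSU 5 F4 2) 1 := by
    have := Cfsg.Agent.H700.FpfPsu.multDvd (F := F4) (q := 2) (n := 5) hF (by norm_num) (by norm_num) (by simp)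
    simpa using this
  let e : SU 5 F4 2 ≃* PSU 5 F4 2 :=
    ((QuotientGroup.quotientMulEquivOfEq center_five).trans QuotientGroup.quotientBot).symm
  intro G _ _ π hπ
  have h2 : IsCover (e.toMonoidHom.comp π) := by
    refine ⟨e.surjective.comp hπ.surj, ?_, hπ.perf⟩
    intro z hz
    refine hπ.central ?_
    have h3 : e (π z) = 1 := hz
    rw [MonoidHom.mem_ker]
    exact e.injective (by rw [h3, map_one])
  have h3 := h1 G _ h2
  have h4 : (e.toMonoidHom.comp π).ker = π.ker := by
    ext z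
    rw [MonoidHom.mem_ker, MonoidHom.mem_ker]
    show e (π z) = 1 ↔ _
    rw [MulEquiv.map_eq_one_iff]
  rwa [h4] at h3

/-- the centralizer of `s` is inside `T = SU₅` -/
def InT (s : PSU 6 F4 2) : Prop :=
  ∀ h : PSU 6 F4 2, h * s = s * h → ∃ t : SU 5 F4 2, h = pr (emb t)

theorem aGood_of_T {s : PSU 6 F4 2} (hs : InT s) : AGood s := by
  intro L _ _ π hπ g y hg hy
  obtain ⟨j, hj⟩ := exists_lift multDvd_five perf_five hπ.surj hπ.central (pr.comp emb)
  obtain ⟨t, ht⟩ := hs _ hy
  obtain ⟨u, hu⟩ := hs s rfl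
  have hcen : ∀ z ∈ π.ker, ∀ a : L, Commute z a := fun z hz a => (mem_center_iff.1 (hπ.central hz) a).symm
  have h1 : g * (j u)⁻¹ ∈ π.ker := by
    rw [MonoidHom.mem_ker, map_mul, map_inv, hj, hg, hu]
    exact mul_inv_cancel _
  have h2 : y * (j t)⁻¹ ∈ π.ker := by
    rw [MonoidHom.mem_ker, map_mul, map_inv, hj, ht]
    exact mul_inv_cancel _
  have h3 : u * t * (t * u)⁻¹ = 1 := by
    apply emb_inj
    rw [map_mul, map_inv, map_mul, map_mul, map_mul, map_inv, map_mul, map_mul, ← hu, ← ht, hy, mul_inv_cancel]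
  have h4 : Commute (j u) (j t) := by
    have h5 : u * t = t * u := mul_inv_eq_one.1 h3
    show j u * j t = j t * j u
    rw [← map_mul, h5, map_mul]
  have h5 : g = (g * (j u)⁻¹) * j u := by group
  have h6 : y = (y * (j t)⁻¹) * j t := by group
  have h7 : Commute g y := by
    rw [h5, h6]
    refine Commute.mul_left (hcen _ h1 _) ?_
    exact Commute.mul_right (hcen _ h2 _).symm h4
  exact h7.eq

theorem InT.of_pow {s x : PSU 6 F4 2} (hx : InT x) {k : ℕ} (h : s ^ k = x) : InT s := by
  intro a ha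
  refine hx a ?_
  rw [← h]
  exact ((show Commute a s from ha).pow_right k).eq

/-- a matrix fixing the last coordinate vector -/
theorem exists_emb {B : SU 6 F4 2} (h5 : H242.RIM.mt B 5 5 = 1) (hz : ∀ i : Fin 6, i ≠ 5 → H242.RIM.mt B i 5 = 0 ∧ H242.RIM.mt B 5 i = 0) :
    ∃ t : SU 5 F4 2, B = emb t := by
  set M : Matrix (Fin 5) (Fin 5) F4 := fun i j => H242.RIM.mt B (Fin.castAdd 1 i) (Fin.castAdd 1 j) with hM
  have hB : H242.RIM.mt B = reindex finSumFinEquiv finSumFinEquiv (fromBlocks M 0 0 (1 : Matrix (Fin 1) (Fin 1) F4)) := by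
    ext i j
    fin_cases i <;> fin_cases j <;> first | exact h5 | exact (hz _ (by decide)).1 | exact (hz _ (by decide)).2 | rfl
  have hdet : M.det = 1 := by
    have h2 : (H242.RIM.mt B).det = 1 := B.1.2
    rw [hB, det_reindex_self, det_fromBlocks_zero₂₁, det_one, mul_one] at h2
    exact h2
  have hmem : (⟨M, hdet⟩ : SpecialLinearGroup (Fin 5) F4) ∈ SU 5 F4 2 := by
    refine mem_of_cols hF _ fun j k => ?_
    have h2 := cols (by norm_num) B (Fin.castAdd 1 j) (Fin.castAdd 1 k)
    rw [Fin.sum_univ_six, (hz (Fin.castAdd 1 j) (by fin_cases j <;> decide)).2] at h2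
    rw [zero_mul, add_zero] at h2
    rw [Fin.sum_univ_five]
    have h3 : (Fin.castAdd 1 j = Fin.castAdd 1 k) ↔ j = k := by
      refine ⟨fun h => ?_, fun h => by rw [h]⟩
      have h4 := congrArg Fin.val h
      rw [Fin.val_castAdd, Fin.val_castAdd] at h4
      exact Fin.ext h4
    simp only [h3] at h2
    exact h2
  refine ⟨⟨⟨M, hdet⟩, hmem⟩, ?_⟩
  refine Subtype.ext (Subtype.ext ?_)
  exact hB

/-- a matrix with the last coordinate vector as an eigenvector, modulo scalars -/
theorem exists_emb' {B : SU 6 F4 2} (hz : ∀ i : Fin 6, i ≠ 5 → H242.RIM.mt B i 5 = 0 ∧ H242.RIM.mt B 5 i = 0) :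
    ∃ t : SU 5 F4 2, pr B = pr (emb t) := by
  have hn : (H242.RIM.mt B 5 5) ^ 3 = 1 := by
    have h1 := cols (by norm_num) B 5 5
    rw [if_pos rfl, Finset.sum_eq_single 5] at h1
    · rw [← h1]; ring
    · intro i _ hi
      rw [(hz i hi).1, zero_mul]
    · intro h; exact absurd (Finset.mem_univ _) h
  set c := H242.RIM.mt B 5 5 with hc
  have hc3 : (c ^ 2) ^ 3 = 1 := by rw [← pow_mul, pow_mul', hn, one_pow]
  have hc6 : (c ^ 2) ^ 6 = 1 := by rw [show 6 = 3 * 2 from rfl, pow_mul, hc3, one_pow]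
  have hmt : ∀ i j, H242.RIM.mt (suScalar 2 (c ^ 2) hc6 hc3 * B) i j = c ^ 2 * H242.RIM.mt B i j := by
    intro i j
    rw [mt_mul]
    show ((diagonal (fun _ => c ^ 2) * H242.RIM.mt B : Matrix (Fin 6) (Fin 6) F4)) i j = _
    rw [diagonal_mul]
  obtain ⟨t, ht⟩ := exists_emb (B := suScalar 2 (c ^ 2) hc6 hc3 * B)
    (by rw [hmt, ← hc, ← pow_succ, hn])
    (by
      intro i hi
      rw [hmt, hmt, (hz i hi).1, (hz i hi).2, mul_zero]
      exact ⟨rfl, rfl⟩)
  refine ⟨t, ?_⟩
  rw [← ht, map_mul]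
  have h1 : pr (suScalar 2 (c ^ 2) hc6 hc3) = 1 :=
    (QuotientGroup.eq_one_iff _).2 (suScalar_mem_center 2 _ hc6 hc3)
  rw [h1, one_mul]

/-- commuting modulo scalars, nonzero trace -/
theorem comm_of {g h : SU 6 F4 2} (ht : (mat g).trace ≠ 0) (hc : pr h * pr g = pr g * pr h) :
    mat h * mat g = mat g * mat h := by
  have h1 : pr ((h * g) * (g * h)⁻¹) = 1 := by
    rw [map_mul, map_inv, map_mul, map_mul, hc, mul_inv_cancel]
  obtain ⟨c, -, h2⟩ := pr_eq_one h1
  have h3 : mat (h * g) = c • mat (g * h) := by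
    have h4 : h * g = ((h * g) * (g * h)⁻¹) * (g * h) := by group
    have h5 : mat (h * g) = mat ((h * g) * (g * h)⁻¹) * mat (g * h) := by rw [← mat_mul, ← h4]
    rw [h5, h2, smul_mul_assoc, one_mul]
  rw [mat_mul, mat_mul] at h3
  have h4 : mat h * mat g * st (mat h) = c • mat g := by
    rw [h3, smul_mul_assoc, mul_assoc, mat_mul_st, mul_one]
  have h5 : (mat g).trace = c * (mat g).trace := by
    have h6 := congrArg Matrix.trace h4
    rw [Matrix.trace_smul, smul_eq_mul, Matrix.trace_mul_comm, ← mul_assoc, st_mat, one_mul] at h6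
    exact h6
  have h6 : c = 1 := by
    have h7 : (c - 1) * (mat g).trace = 0 := by linear_combination -h5
    exact sub_eq_zero.1 ((mul_eq_zero.1 h7).resolve_right ht)
  rw [h3, h6, one_smul]

end five

end Cfsg.Agent.H121.RIM
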