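import Cfsg.Agent.H121.RIM.Lift
import Cfsg.Agent.H849.RIM.RegCount

/-!
# S4816: the count of the `p`-regular classes with `AGood` (helper121, after helper849)

* `nb_reg` : `NB p m S` from a list of pairwise not conjugate `p`-regular elements which are good in every cover.
-/

set_option autoImplicit false
set_option linter.unusedSectionVars false

namespace Cfsg.Agent.H121.RIM

open Cfsg Subgroup
open Cfsg.Agent.H80.Fpf Cfsg.Agent.H665.RIM Cfsg.Agent.H849.RIM Cfsg.Agent.H622.Over

universe u

/-- `AGood` for covers in every universe. -/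
theorem AGood.univ {S₀ : Type} [Group S₀] {s : S₀} (h : AGood s) {E : Type u} [Group E] [Finite E] {π : E →* S₀}
    (hs : Function.Surjective π) (hc : π.ker ≤ center E) (hp : commutator E = ⊤) {g y : E} (hg : π g = s)
    (hy : π y * s = s * π y) : g * y = y * g := by
  obtain ⟨L, _, _, ⟨f⟩⟩ := Finite.exists_type_univ_nonempty_mulEquiv.{u, 0} E
  have hfin : Finite L := Finite.of_equiv _ f.toEquiv
  let π' : L →* S₀ := π.comp f.symm.toMonoidHom
  have hk : ∀ x : L, x ∈ π'.ker ↔ f.symm x ∈ π.ker := by
    intro x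
    rw [MonoidHom.mem_ker, MonoidHom.mem_ker]
    rfl
  have hπ' : IsCover π' := by
    refine ⟨hs.comp f.symm.surjective, ?_, ?_⟩
    · intro x hx
      rw [mem_center_iff]
      intro y
      apply f.symm.injective
      rw [map_mul, map_mul]
      exact mem_center_iff.1 (hc ((hk x).1 hx)) _
    · have h1 : (commutator E).map f.toMonoidHom = commutator L := by
        rw [commutator_def, commutator_def, Subgroup.map_commutator, ← MonoidHom.range_eq_map,
          MonoidHom.range_eq_top.2 f.surjective]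
      rw [← h1, hp, ← MonoidHom.range_eq_map]
      exact MonoidHom.range_eq_top.2 f.surjective
  have h1 := h L π' hπ' (f g) (f y)
    (by show π (f.symm (f g)) = s; rw [f.symm_apply_apply, hg])
    (by show π (f.symm (f y)) * s = s * π (f.symm (f y)); rw [f.symm_apply_apply, hy])
  apply f.injective
  rw [map_mul, map_mul, h1]

/-- **`NB` by the number of the good `p`-regular classes.** -/
theorem nb_reg {p m n : ℕ} (hp : p.Prime) (hpm : ¬ p ∣ m) {S₀ : Type} [Group S₀]
    (hsq : ¬ p ^ 2 ∣ Nat.card S₀) {y : S₀} (hy : orderOf y = p) {k w a : ℕ}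
    (hC : Nat.card (centralizer ({y} : Set S₀)) = p * k)
    (hN : Nat.card (normalizer ((zpowers y : Subgroup S₀) : Set S₀)) = w * (p * k))
    (hk' : ∀ C₀ : Subgroup S₀, C₀ ≤ centralizer {y} → Nat.card C₀ = k → Nat.card (ConjClasses C₀) ≤ a)
    (f : Fin n → S₀) (hf : ∀ i j, IsConj (f i) (f j) → i = j) (hfp : ∀ i, ¬ p ∣ orderOf (f i))
    (hA : ∀ i, AGood (f i)) (hlt : a * w < n) {S : Type u} [Group S] (e₀ : S ≃* S₀) : NB p m S := by
  have : Fact p.Prime := ⟨hp⟩
  intro E _ _ π hπ hker hperf hcard l _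
  let e : (E ⧸ π.ker) ≃* S₀ := (QuotientGroup.quotientKerEquivOfSurjective π hπ).trans e₀
  have hco : ∀ {A B : Type u} [Group A] (g : A ≃* S₀) (t : S₀),
      Nat.card (centralizer ({g.symm t} : Set A)) = Nat.card (centralizer ({t} : Set S₀)) := by
    intro A _ _ g t
    refine Nat.card_congr (g.toEquiv.subtypeEquiv ?_)
    intro x
    rw [mem_centralizer_singleton_iff, mem_centralizer_singleton_iff]
    show x * g.symm t = g.symm t * x ↔ g x * t = t * g x
    rw [← g.injective.eq_iff, map_mul, map_mul, g.apply_symm_apply]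
  have hno : Nat.card (normalizer ((zpowers (e.symm y) : Subgroup (E ⧸ π.ker)) : Set (E ⧸ π.ker))) =
      Nat.card (normalizer ((zpowers y : Subgroup S₀) : Set S₀)) := by
    have h0 : (zpowers (e.symm y)).map e.toMonoidHom = zpowers y := by
      rw [MonoidHom.map_zpowers]
      show zpowers (e (e.symm y)) = _
      rw [e.apply_symm_apply]
    rw [← h0]
    have h1 := Subgroup.map_equiv_normalizer_eq (zpowers (e.symm y)) e
    rw [← h1]
    exact Nat.card_congr ((normalizer ((zpowers (e.symm y) : Subgroup (E ⧸ π.ker)) : Set (E ⧸ π.ker))).equivMapOfInjective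
      e.toMonoidHom e.injective).toEquiv
  suffices H : ∃ χ : IrrCharacter E, Lies π.ker l (χ : E → ℂ) ∧ p ∣ charDegree (χ : E → ℂ) by
    obtain ⟨χ, hχ, hd⟩ := H
    refine ⟨χ, χ.2, fun z => ?_, hd⟩
    have h1 := hχ 1 z
    rwa [one_mul] at h1
  refine exists_dvd_reg hker (hcard ▸ hpm) (by rwa [Nat.card_congr e.toEquiv]) (y := e.symm y) (k := k)
    (w := w) (a := a) (by rw [← hy]; exact orderOf_injective e.symm.toMonoidHom e.symm.injective y)
    (by rw [hco (B := E) e y, hC]) (by rw [hno, hN]) ?_ l (ι := Fin n) (fun i => e.symm (f i)) ?_ ?_ ?_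
    (by rwa [Fintype.card_fin])
  · intro C₀ hC₀ hcard
    have h1 : C₀.map e.toMonoidHom ≤ centralizer {y} := by
      rintro x ⟨x, hx, rfl⟩
      have h2 := mem_centralizer_singleton_iff.1 (hC₀ hx)
      rw [mem_centralizer_singleton_iff]
      have h3 := congrArg e h2
      rw [map_mul, map_mul, e.apply_symm_apply] at h3
      exact h3
    have h2 : Nat.card (C₀.map e.toMonoidHom) = k := by
      rw [← hcard]
      exact (Nat.card_congr (C₀.equivMapOfInjective e.toMonoidHom e.injective).toEquiv).symm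
    refine le_trans ?_ (hk' _ h1 h2)
    have : Finite C₀ := inferInstance
    have e' : C₀ ≃* C₀.map e.toMonoidHom := C₀.equivMapOfInjective e.toMonoidHom e.injective
    have : Finite (C₀.map e.toMonoidHom) := Finite.of_equiv _ e'.toEquiv
    have hfC : Finite (ConjClasses (C₀.map e.toMonoidHom)) :=
      Finite.of_surjective _ (ConjClasses.mk_surjective)
    refine Nat.card_le_card_of_injective (ConjClasses.map e'.toMonoidHom) ?_
    intro x z h
    obtain ⟨a, rfl⟩ := ConjClasses.mk_surjective x
    obtain ⟨b, rfl⟩ := ConjClasses.mk_surjective z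
    have h1 : IsConj (e' a) (e' b) := ConjClasses.mk_eq_mk_iff_isConj.1 h
    obtain ⟨c, hc⟩ := isConj_iff.1 h1
    refine ConjClasses.mk_eq_mk_iff_isConj.2 (isConj_iff.2 ⟨e'.symm c, e'.injective ?_⟩)
    rw [map_mul, map_mul, map_inv, MulEquiv.apply_symm_apply]
    exact hc
  · intro i j hij
    apply hf
    obtain ⟨c, hc⟩ := isConj_iff.1 hij
    refine isConj_iff.2 ⟨e c, ?_⟩
    have h2 := congrArg e hc
    simpa using h2
  · intro i h
    apply hfp i
    have h1 : orderOf (e.symm (f i)) = orderOf (f i) :=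
      orderOf_injective e.symm.toMonoidHom e.symm.injective _
    rwa [h1] at h
  · intro i g hg x hx
    have h1 : e₀ (π g) = f i := by
      have h2 := congrArg e hg
      rw [e.apply_symm_apply] at h2
      exact h2
    have h2 : x⁻¹ * g⁻¹ * x * g ∈ π.ker := hx
    have h3 : π x * π g = π g * π x := by
      rw [MonoidHom.mem_ker, map_mul, map_mul, map_mul, map_inv, map_inv] at h2
      have h4 : π x * π g = (π g * π x) * ((π x)⁻¹ * (π g)⁻¹ * π x * π g) := by group
      rw [h4, h2, mul_one]
    have hker' : (e₀.toMonoidHom.comp π).ker ≤ center E := by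
      intro z hz
      refine hker ?_
      rw [MonoidHom.mem_ker] at hz ⊢
      exact e₀.injective (by rw [map_one]; exact hz)
    have h4 := (hA i).univ (π := e₀.toMonoidHom.comp π) (e₀.surjective.comp hπ) hker' hperf (g := g) (y := x) h1 (by
      show e₀ (π x) * f i = f i * e₀ (π x)
      rw [← h1, ← map_mul e₀, ← map_mul e₀, h3])
    have h5 : (⟨x⁻¹ * g⁻¹ * x * g, hx⟩ : π.ker) = 1 := by
      apply Subtype.ext
      show x⁻¹ * g⁻¹ * x * g = 1
      calc x⁻¹ * g⁻¹ * x * g = x⁻¹ * g⁻¹ * (x * g) := by group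
        _ = x⁻¹ * g⁻¹ * (g * x) := by rw [h4]
        _ = 1 := by group
    rw [h5, map_one]

end Cfsg.Agent.H121.RIM
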