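import Cfsg.Agent.H121.RIM.Elts
import Cfsg.Agent.H121.RIM.RegU

/-!
# S4816, rows `U₆(2)`, `p = 7, 11` (helper121)
-/

set_option autoImplicit false
set_option linter.unusedSectionVars false

namespace Cfsg.Agent.H121.RIM

open Cfsg Subgroup Cfsg.Agent.SporadicA.FieldFour Cfsg.Agent.H852.USixElts Cfsg.Agent.H665.RIM

universe u

/-- the normalizer of a subgroup of prime order -/
theorem exists_w {S : Type*} [Group S] [Finite S] {y : S} {p : ℕ} (hp : p.Prime) (hy : orderOf y = p) :
    ∃ w, w ≤ p - 1 ∧ Nat.card (normalizer ((zpowers y : Subgroup S) : Set S)) =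
      w * Nat.card (centralizer ({y} : Set S)) := by
  let φ := (zpowers y).normalizerMonoidHom
  have hk : φ.ker = (centralizer ((zpowers y : Subgroup S) : Set S)).subgroupOf (normalizer ((zpowers y : Subgroup S) : Set S)) :=
    Subgroup.normalizerMonoidHom_ker (zpowers y)
  have hc : centralizer ((zpowers y : Subgroup S) : Set S) = centralizer ({y} : Set S) := by
    ext x
    rw [mem_centralizer_singleton_iff, mem_centralizer_iff]
    constructor
    · intro h
      exact (h y (mem_zpowers y)).symm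
    · rintro h _ ⟨j, rfl⟩
      exact ((show Commute y x from h.symm).zpow_left j).eq
  have h1 := φ.ker.card_mul_index
  rw [Subgroup.index_ker] at h1
  refine ⟨Nat.card φ.range, ?_, ?_⟩
  · have : Finite (zpowers y) := inferInstance
    have h2 := Subgroup.card_subgroup_dvd_card φ.range
    have h3 : Nat.card (MulAut (zpowers y)) = p - 1 := by
      rw [IsCyclic.card_mulAut, Nat.card_zpowers, hy, Nat.totient_prime hp]
    rw [h3] at h2
    exact Nat.le_of_dvd (Nat.sub_pos_of_lt hp.one_lt) h2
  · rw [← h1, hk, Nat.card_congr (subgroupOfEquivOfLe (Subgroup.centralizer_le_normalizer _)).toEquiv, hc, mul_comm]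

theorem one_classes {S : Type*} [Group S] (C₀ : Subgroup S) (h : Nat.card C₀ = 1) : Nat.card (ConjClasses C₀) ≤ 1 := by
  have h1 : Subsingleton C₀ := (Nat.card_eq_one_iff_unique.1 h).1
  have h2 : Subsingleton (ConjClasses C₀) := by
    refine ⟨fun a b => ?_⟩
    obtain ⟨a, rfl⟩ := ConjClasses.mk_surjective a
    obtain ⟨b, rfl⟩ := ConjClasses.mk_surjective b
    rw [Subsingleton.elim a b]
  have : Nat.card (ConjClasses C₀) = 1 := Nat.card_eq_one_iff_unique.2 ⟨h2, ⟨ConjClasses.mk 1⟩⟩
  exact this.le

/-- **`p = 7`.** -/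
theorem f4_seven {S : Type u} [Group S] (e : S ≃* PSU 6 F4 2) : NBall 7 S := by
  intro m _ hm
  have := finite_S
  obtain ⟨f, hf, ho, hA⟩ := exists_list
  obtain ⟨w, hw, hN⟩ := exists_w (p := 7) (by norm_num) order_x7
  rw [cent_seven order_x7] at hN
  have hinj : Function.Injective (fun i : Fin 10 => (Fin.castLE (by norm_num) i : Fin 13)) := Fin.castLE_injective _
  refine nb_reg (n := 10) (k := 1) (a := 1) (w := w) (by norm_num) hm (by rw [card_S]; norm_num) order_x7
    (by rw [cent_seven order_x7]) (by rw [hN]) (fun C₀ _ h => one_classes C₀ h)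
    (fun i => f (Fin.castLE (by norm_num) i)) (fun i j h => hinj (hf _ _ h)) ?_ (fun i => hA _) (by omega) e
  intro i
  rw [ho]
  revert i
  decide

/-- **`p = 11`.** -/
theorem f4_eleven {S : Type u} [Group S] (e : S ≃* PSU 6 F4 2) : NBall 11 S := by
  intro m _ hm
  have := finite_S
  obtain ⟨f, hf, ho, hA⟩ := exists_list
  obtain ⟨w, hw, hN⟩ := exists_w (p := 11) (by norm_num) order_y11
  rw [cent_eleven order_y11] at hN
  have hinj : Function.Injective (fun i : Fin 11 => (Fin.castLE (by norm_num) i : Fin 13)) := Fin.castLE_injective _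
  refine nb_reg (n := 11) (k := 1) (a := 1) (w := w) (by norm_num) hm (by rw [card_S]; norm_num) order_y11
    (by rw [cent_eleven order_y11]) (by rw [hN]) (fun C₀ _ h => one_classes C₀ h)
    (fun i => f (Fin.castLE (by norm_num) i)) (fun i j h => hinj (hf _ _ h)) ?_ (fun i => hA _) (by omega) e
  intro i
  rw [ho]
  revert i
  decide

section general

variable {F : Type} [Field F] [Fintype F]

theorem exists_f4 (hF : Fintype.card F = 4) : Nonempty (PSU 6 F 2 ≃* PSU 6 F4 2) :=
  Cfsg.Agent.SporadicStructure.PsuMatch.psu_iso_of_card (F := F) (K := F4) (by rw [hF]; rfl) 6 2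

/-- **Row `U₆(2)`, `p = 7`.** -/
theorem row_seven (hF : Fintype.card F = 4) {S : Type u} [Group S] (e : S ≃* PSU 6 F 2) : NBall 7 S := by
  obtain ⟨g⟩ := exists_f4 hF
  exact f4_seven (e.trans g)

/-- **Row `U₆(2)`, `p = 11`.** -/
theorem row_eleven (hF : Fintype.card F = 4) {S : Type u} [Group S] (e : S ≃* PSU 6 F 2) : NBall 11 S := by
  obtain ⟨g⟩ := exists_f4 hF
  exact f4_eleven (e.trans g)

end general

end Cfsg.Agent.H121.RIM
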