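import Cfsg.Agent.H121.RIM.CFive
import Cfsg.Agent.H121.RIM.USix

/-!
# S4816, row `U₆(2)`, `p = 5` (helper121)
-/

set_option autoImplicit false
set_option linter.unusedSectionVars false

namespace Cfsg.Agent.H121.RIM

open Cfsg Matrix Subgroup Cfsg.Agent.SporadicA.FieldFour F4 Cfsg.Agent.H852.USixElts Cfsg.Agent.H665.RIM
open Cfsg.Agent.H410.QA

universe u

/-! ### groups of order 6 -/

/-- a group of order 6 with elements `t`, `z` of orders 2 and 3, `t z t⁻¹ = z⁻¹`, has three classes -/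
theorem classes_le_three {T : Type*} [Group T] [Finite T] (h6 : Nat.card T = 6) {t z : T} (ht : orderOf t = 2)
    (hz : orderOf z = 3) (htz : t * z * t⁻¹ = z⁻¹) : Nat.card (ConjClasses T) ≤ 3 := by
  have hzc : Nat.card (zpowers z) = 3 := by rw [Nat.card_zpowers, hz]
  have hidx : (zpowers z).index = 2 := by
    have h1 := (zpowers z).card_mul_index
    rw [hzc, h6] at h1
    omega
  have htn : t ∉ zpowers z := by
    intro h
    have h1 := orderOf_dvd_natCard (⟨t, h⟩ : zpowers z)
    rw [Subgroup.orderOf_mk, ht, hzc] at h1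
    omega
  have ht2 : t * t = 1 := by rw [← pow_two, ← ht, pow_orderOf_eq_one]
  have hz3 : z * z * z = 1 := by
    have := pow_orderOf_eq_one z
    rw [hz, pow_succ, pow_two] at this
    exact this
  have hinv : z⁻¹ = z * z := by rw [inv_eq_iff_mul_eq_one, ← mul_assoc, hz3]
  have htz' : t * z = z * z * t := by
    rw [← hinv, ← htz, inv_mul_cancel_right]
  have hmem : ∀ a ∈ zpowers z, a = 1 ∨ a = z ∨ a = z * z := by
    intro a ha
    obtain ⟨k, rfl⟩ := mem_powers_iff_mem_zpowers.2 ha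
    have h1 : z ^ k = z ^ (k % 3) := by rw [← hz, pow_mod_orderOf]
    show z ^ k = 1 ∨ z ^ k = z ∨ z ^ k = z * z
    rw [h1]
    have h2 : k % 3 < 3 := Nat.mod_lt _ (by norm_num)
    interval_cases (k % 3)
    · exact Or.inl (pow_zero z)
    · exact Or.inr (Or.inl (pow_one z))
    · exact Or.inr (Or.inr (pow_two z))
  have hall : ∀ g : T, IsConj g 1 ∨ IsConj g z ∨ IsConj g t := by
    intro g
    by_cases hg : g ∈ zpowers z
    · rcases hmem g hg with rfl | rfl | rfl
      · exact Or.inl (IsConj.refl _)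
      · exact Or.inr (Or.inl (IsConj.refl _))
      · right; left
        refine isConj_iff.2 ⟨t, ?_⟩
        have h1 : t * (z * z) * t⁻¹ = (t * z * t⁻¹) * (t * z * t⁻¹) := by group
        rw [h1, htz, hinv]
        calc z * z * (z * z) = (z * z * z) * z := by group
          _ = z := by rw [hz3, one_mul]
    · right; right
      have h1 : g * t ∈ zpowers z := by
        rw [Subgroup.mul_mem_iff_of_index_two hidx]
        exact iff_of_false hg htn
      have h2 : g = g * t * t := by rw [mul_assoc, ht2, mul_one]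
      rcases hmem _ h1 with h3 | h3 | h3
      · rw [h2, h3, one_mul]
      · -- `z t = z⁻¹... `
        rw [h2, h3]
        refine isConj_iff.2 ⟨z, ?_⟩
        rw [hinv]
        calc z * (z * t) * (z * z) = z * z * (t * z) * z := by group
          _ = z * z * (z * z * t) * z := by rw [htz']
          _ = z * z * z * z * (t * z) := by group
          _ = z * z * z * z * (z * z * t) := by rw [htz']
          _ = (z * z * z) * (z * z * z) * t := by group
          _ = t := by rw [hz3, one_mul, one_mul]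
      · rw [h2, h3]
        refine isConj_iff.2 ⟨z * z, ?_⟩
        have h4 : (z * z)⁻¹ = z := by rw [inv_eq_iff_mul_eq_one, hz3]
        rw [h4]
        calc z * z * (z * z * t) * z = (z * z * z) * z * (t * z) := by group
          _ = z * (z * z * t) := by rw [hz3, one_mul, htz']
          _ = (z * z * z) * t := by group
          _ = t := by rw [hz3, one_mul]
  have h1 : Function.Surjective (fun i : Fin 3 => ConjClasses.mk ((![1, z, t] : Fin 3 → T) i)) := by
    intro C
    obtain ⟨g, rfl⟩ := ConjClasses.mk_surjective C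
    rcases hall g with h | h | h
    · exact ⟨0, ConjClasses.mk_eq_mk_iff_isConj.2 h.symm⟩
    · exact ⟨1, ConjClasses.mk_eq_mk_iff_isConj.2 h.symm⟩
    · exact ⟨2, ConjClasses.mk_eq_mk_iff_isConj.2 h.symm⟩
  have h2 := Nat.card_le_card_of_surjective _ h1
  rwa [Nat.card_fin] at h2

theorem thirty_dvd {S : Type*} [Group S] [Finite S] {y t z : S} (hy : orderOf y = 5) (ht : orderOf t = 2)
    (hz : orderOf z = 3) (hyt : y * t = t * y) (hyz : y * z = z * y) : 30 ∣ Nat.card (centralizer ({y} : Set S)) := by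
  have h : ∀ a : S, y * a = a * y → orderOf a ∣ Nat.card (centralizer ({y} : Set S)) := by
    intro a ha
    have h1 := orderOf_dvd_natCard (⟨a, mem_centralizer_singleton_iff.2 ha.symm⟩ : centralizer ({y} : Set S))
    rwa [Subgroup.orderOf_mk] at h1
  have h5 := h y rfl
  have h2 := h t hyt
  have h3 := h z hyz
  rw [hy] at h5
  rw [ht] at h2
  rw [hz] at h3
  omega

theorem classes_six {S : Type*} [Group S] [Finite S] {y t z : S} (hy : orderOf y = 5)
    (hC : Nat.card (centralizer ({y} : Set S)) = 5 * 6) (ht : orderOf t = 2) (hz : orderOf z = 3)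
    (hyt : y * t = t * y) (hyz : y * z = z * y) (htz : t * z * t⁻¹ = z⁻¹) (C₀ : Subgroup S)
    (h0 : C₀ ≤ centralizer {y}) (hk : Nat.card C₀ = 6) : Nat.card (ConjClasses C₀) ≤ 3 := by
  set C := centralizer ({y} : Set S) with hCd
  have hyC : y ∈ C := mem_centralizer_singleton_iff.2 rfl
  have hcomm : ∀ a ∈ C, Commute a y := fun a ha => mem_centralizer_singleton_iff.1 ha
  -- elements `c` of `C` with `c ^ 6 = 1` are in `C₀`
  let A : Subgroup C := zpowers (⟨y, hyC⟩ : C)
  let B : Subgroup C := C₀.subgroupOf C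
  have hA : Nat.card A = 5 := by rw [Nat.card_zpowers, Subgroup.orderOf_mk, hy]
  have hB : Nat.card B = 6 := by rw [Nat.card_congr (subgroupOfEquivOfLe h0).toEquiv, hk]
  have hcompl : IsComplement' A B :=
    isComplement'_of_coprime (by rw [hA, hB, hC]) (by rw [hA, hB]; norm_num)
  have key : ∀ c ∈ C, c ^ 6 = 1 → c ∈ C₀ := by
    intro c hc h6
    obtain ⟨⟨⟨a, ha⟩, ⟨b, hb⟩⟩, hab⟩ := (hcompl.existsUnique ⟨c, hc⟩).exists
    obtain ⟨k, rfl⟩ := mem_powers_iff_mem_zpowers.2 ha
    have hab' : y ^ k * (b : S) = c := congrArg Subtype.val hab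
    have hb0 : (b : S) ∈ C₀ := hb
    have hb6 : (b : S) ^ 6 = 1 := by
      have h1 : (⟨(b : S), hb0⟩ : C₀) ^ 6 = 1 := by rw [← hk]; exact pow_card_eq_one'
      exact congrArg Subtype.val h1
    have h1 : Commute (y ^ k) (b : S) := ((hcomm b b.2).symm).pow_left k
    rw [← hab', h1.mul_pow, hb6, mul_one, ← pow_mul] at h6
    have h2 := orderOf_dvd_of_pow_eq_one h6
    rw [hy] at h2
    have h3 : 5 ∣ k := (Nat.Coprime.dvd_of_dvd_mul_right (by norm_num) h2)
    have h4 : y ^ k = 1 := orderOf_dvd_iff_pow_eq_one.1 (by rw [hy]; exact h3)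
    rw [← hab', h4, one_mul]
    exact hb0
  have ht0 : t ∈ C₀ := key t (mem_centralizer_singleton_iff.2 hyt.symm) (orderOf_dvd_iff_pow_eq_one.1 (by rw [ht]; norm_num))
  have hz0 : z ∈ C₀ := key z (mem_centralizer_singleton_iff.2 hyz.symm) (orderOf_dvd_iff_pow_eq_one.1 (by rw [hz]; norm_num))
  exact classes_le_three hk (t := ⟨t, ht0⟩) (z := ⟨z, hz0⟩) (by rw [Subgroup.orderOf_mk, ht])
    (by rw [Subgroup.orderOf_mk, hz]) (Subtype.ext htz)

/-! ### the elements -/

def TT : M6 := !![z,o,o,o,o,o; o,z,o,o,o,o; o,o,z,o,o,o; o,o,o,z,o,o; o,o,o,o,z,o; o,o,o,o,o,z]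
def ZZ : M6 := !![w,v,v,v,v,z; v,w,v,v,v,z; v,v,w,v,v,z; v,v,v,w,v,z; v,v,v,v,w,z; z,z,z,z,z,v]

set_option maxRecDepth 100000

theorem TT_st : st TT * TT = 1 := by decide +kernel
theorem ZZ_st : st ZZ * ZZ = 1 := by decide +kernel
theorem TT_pow : TT ^ 2 = 1 := by decide +kernel
theorem ZZ_pow : ZZ ^ 3 = 1 := by decide +kernel
theorem ZZ_det : ZZ.det = 1 := by decide +kernel
theorem P5_TT : P5 * TT = TT * P5 := by decide +kernel
theorem P5_ZZ : P5 * ZZ = ZZ * P5 := by decide +kernel
theorem TT_ZZ : TT * ZZ = ZZ * ZZ * TT := by decide +kernel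

def tt : SU 6 F4 2 := mk TT TT_st (det_one_of_pow 2 TT_pow (by decide))
def zz : SU 6 F4 2 := mk ZZ ZZ_st ZZ_det

theorem order_tt : orderOf (pr tt) = 2 := by
  refine orderOf_pr (by norm_num) (mat_inj ?_) (pr_ne_one 0 1 (by decide) (by
    show TT 0 1 ≠ 0
    decide +kernel))
  rw [mat_pow]
  exact TT_pow

theorem order_zz : orderOf (pr zz) = 3 := by
  refine orderOf_pr (by norm_num) (mat_inj ?_) (pr_ne_one 0 1 (by decide) (by
    show ZZ 0 1 ≠ 0
    decide +kernel))
  rw [mat_pow]
  exact ZZ_pow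

theorem tt_zz : pr tt * pr zz * (pr tt)⁻¹ = (pr zz)⁻¹ := by
  have h1 : tt * zz = zz * zz * tt := mat_inj TT_ZZ
  have h3 : zz ^ 3 = 1 := mat_inj (by rw [mat_pow]; exact ZZ_pow)
  have h2 : tt * zz * tt⁻¹ = zz⁻¹ := by
    rw [h1, mul_inv_cancel_right, eq_inv_iff_mul_eq_one, ← pow_three', h3]
  rw [← map_mul, ← map_inv, ← map_mul, h2, map_inv]

theorem card_cent_five : Nat.card (centralizer ({pr p5} : Set (PSU 6 F4 2))) = 5 * 6 := by
  have := finite_S
  have h1 := thirty_dvd order_p5 order_tt order_zz (pr_comm (g := p5) (h := tt) P5_TT)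
    (pr_comm (g := p5) (h := zz) P5_ZZ)
  have h2 := centralizer_le (y := pr p5) rfl
  have h3 : 0 < Nat.card (centralizer ({pr p5} : Set (PSU 6 F4 2))) := Nat.card_pos
  have h4 := Nat.le_of_dvd h3 h1
  omega

/-- **`p = 5`.** -/
theorem f4_five {S : Type u} [Group S] (e : S ≃* PSU 6 F4 2) : NBall 5 S := by
  intro m _ hm
  have := finite_S
  obtain ⟨f, hf, ho, hA⟩ := exists_list
  obtain ⟨w, hw, hN⟩ := exists_w (p := 5) (by norm_num) order_p5
  rw [card_cent_five] at hN
  refine nb_reg (n := 13) (k := 6) (a := 3) (w := w) (by norm_num) hm (by rw [card_S]; norm_num) order_p5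
    card_cent_five hN (classes_six order_p5 card_cent_five order_tt order_zz (pr_comm (g := p5) (h := tt) P5_TT)
    (pr_comm (g := p5) (h := zz) P5_ZZ) tt_zz) f hf ?_ hA (by omega) e
  intro i
  rw [ho]
  revert i
  decide

section general

variable {F : Type} [Field F] [Fintype F]

/-- **Row `U₆(2)`, `p = 5`.** -/
theorem row_five (hF : Fintype.card F = 4) {S : Type u} [Group S] (e : S ≃* PSU 6 F 2) : NBall 5 S := by
  obtain ⟨g⟩ := exists_f4 hF
  exact f4_five (e.trans g)

end general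

end Cfsg.Agent.H121.RIM
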