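import Cfsg.Agent.H121.RIM.UFive
import Cfsg.Agent.H325.RIM.Surv

/-!
# S4816: the rows `U₆(2)`, `p = 5, 7, 11` (helper121)
-/

set_option autoImplicit false

namespace Cfsg.Agent.H121.RIM

open Cfsg.Agent.H665.RIM Cfsg.Agent.H325.RIM

universe u

/-- field `u62` of `RowsKill` -/
theorem row_u62 : ∀ p : ℕ, p = 5 ∨ p = 7 ∨ p = 11 → KillRow.{u} p (.psu 6 2) := by
  intro p hp S _ _ h
  obtain ⟨F, _, _, hF, ⟨e⟩⟩ := h.real
  have hF4 : Fintype.card F = 4 := by rw [hF]; norm_num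
  rcases hp with rfl | rfl | rfl
  · exact Or.inl (row_five hF4 e)
  · exact Or.inl (row_seven hF4 e)
  · exact Or.inl (row_eleven hF4 e)

end Cfsg.Agent.H121.RIM
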